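import Groth.Agent.AlgGrp.K408.CharTor
import Groth.Agent.AlgGrp.K408.CharUnit
import Groth.Agent.S3927
import Groth.Prelude.Def_AGF

/-!
# An invertible function on a connected affine group which is trivial on a maximal torus is trivial
-/

set_option autoImplicit false

universe u

open CategoryTheory MonoidalCategory CartesianMonoidalCategory MonObj GrpObj AlgebraicGeometry Limits

namespace Groth.Agent.AlgGrp.K493.UnitTor

open Books.AlgPts Books.AlgPtsGrp Sga3.H794.FinPts Sga3.H794.ChevKer Sga3.H794.ChevStep Sga3.H794.ChevAff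
open K408.SemiComm K408.TorCrit K408.CharTor

variable {K : Type u} [Field K] [IsAlgClosed K]

/-- A character of a connected affine group which is trivial on a maximal torus is trivial. -/
theorem char_eq_one (H T : Over (Spec (CommRingCat.of K))) [GrpObj H] [GrpObj T] [IsAffine H.left]
    [Smooth H.hom] [ConnectedSpace H.left] (i : T ⟶ H) (hi : AGF.IsMaxTorus i)
    (χ : H ⟶ Red.Gm (Spec (CommRingCat.of K))) [IsMonHom χ] (h : i ≫ χ = 1) : χ = 1 := by
  have hqc : QuasiCompact H.hom := inferInstance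
  have him : IsMonHom i := hi.1
  obtain ⟨N, _, n, hn1, hn2⟩ := Grpsch.KerMul.exists_kernel χ
  have hK : TorKer (n ≫ 𝟙 H) := torKer_char (𝟙 H) (torKer_id H) χ n hn2
  rw [Category.comp_id] at hK
  obtain ⟨r, T', _, hTs, q, hq1, hq2, hq3, hq4⟩ := hK
  have hT' := isTorus_of_split hTs
  have hTsm : Smooth T'.hom := Sga3B.TorusAlgClosed.smooth_of_isTorus hT'
  have hTa : IsAffineHom T'.hom := Sga3B.TorusAlgClosed.isAffineHom_of_isTorus hT'
  have hTa' : IsAffine T'.left := isAffine_of_isAffineHom T'.hom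
  have hTc : ConnectedSpace T'.left := q.left.surjective.connectedSpace q.left.continuous
  -- the maximal torus is killed by `q`
  obtain ⟨w, hw⟩ := exists_lift_ker hn2 i h
  have hiq : i ≫ q = 1 := by
    rw [← hw, Category.assoc]
    simpa using ker_comp hq4 w
  have hcl : IsClosedImmersion (η[T'] : 𝟙_ (Over (Spec (CommRingCat.of K))) ⟶ T').left := by
    have : IsSeparated T'.hom := inferInstance
    have h1 : IsClosedImmersion ((η[T'] : 𝟙_ (Over (Spec (CommRingCat.of K))) ⟶ T').left ≫ T'.hom) := by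
      rw [Over.w]
      exact inferInstanceAs (IsClosedImmersion (𝟙 (Spec (CommRingCat.of K))))
    exact IsClosedImmersion.of_comp _ T'.hom
  have hred : IsReduced (𝟙_ (Over (Spec (CommRingCat.of K)))).left :=
    inferInstanceAs (IsReduced (Spec (CommRingCat.of K)))
  have hsurj : Surjective (toUnit T).left := by
    have h1 : (toUnit T).left = T.hom := by
      have := Over.w (toUnit T)
      exact (Category.comp_id _).symm.trans this
    rw [h1]
    have : Surjective ((η[T] : 𝟙_ (Over (Spec (CommRingCat.of K))) ⟶ T).left ≫ T.hom) := by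
      rw [Over.w]
      exact inferInstanceAs (Surjective (𝟙 (Spec (CommRingCat.of K))))
    exact Surjective.of_comp (η[T] : 𝟙_ (Over (Spec (CommRingCat.of K))) ⟶ T).left T.hom
  have hmax : AGF.IsMaxTorus (η[T'] : 𝟙_ (Over (Spec (CommRingCat.of K))) ⟶ T') :=
    S3927.result K H T' q T i hi _ _ hcl (toUnit T) (by rw [hiq]; rfl)
  have hiso : IsIso (η[T'] : 𝟙_ (Over (Spec (CommRingCat.of K))) ⟶ T') :=
    hmax.2.2.2 T' (𝟙 T') _ hT' (Category.comp_id _)
  have hq0 : q = 1 := by
    have h1 : q ≫ inv (η[T'] : 𝟙_ (Over (Spec (CommRingCat.of K))) ⟶ T') = toUnit H := toUnit_unique _ _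
    have h2 : q = toUnit H ≫ (η[T'] : 𝟙_ (Over (Spec (CommRingCat.of K))) ⟶ T') := by
      rw [← h1, Category.assoc, IsIso.inv_hom_id, Category.comp_id]
    exact h2
  obtain ⟨z, hz⟩ := exists_lift_ker hq4 (𝟙 H) (by rw [Category.id_comp]; exact hq0)
  have h3 : χ = (z ≫ n) ≫ χ := by rw [hz, Category.id_comp]
  rw [h3, Category.assoc]
  simpa using ker_comp hn2 z

/-- An invertible function on a connected affine group which is `1` at the unit and on a maximal torus is `1`. -/
theorem unit_eq_one (H T : Over (Spec (CommRingCat.of K))) [GrpObj H] [GrpObj T] [IsAffine H.left]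
    [Smooth H.hom] [ConnectedSpace H.left] (i : T ⟶ H) (hi : AGF.IsMaxTorus i) (χ : Γ(H.left, ⊤))
    (hχ : IsUnit χ) (h1 : η[H].left.appTop χ = 1) (hT : i.left.appTop χ = 1) : χ = 1 := by
  let u : H ⟶ Red.Gm (Spec (CommRingCat.of K)) := (GmPts.equiv (S := Spec (CommRingCat.of K)) H).symm hχ.unit
  have hu : GmPts.unitOfPt u = hχ.unit := (GmPts.equiv (S := Spec (CommRingCat.of K)) H).apply_symm_apply _
  have hone : η[H] ≫ u = η[Red.Gm (Spec (CommRingCat.of K))] := by
    apply (GmPts.equiv (S := Spec (CommRingCat.of K)) _).injective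
    have e : (η[Red.Gm (Spec (CommRingCat.of K))] : 𝟙_ _ ⟶ Red.Gm (Spec (CommRingCat.of K))) = 1 :=
      MonObj.one_eq_one _
    rw [GmPts.equiv_apply, GmPts.equiv_apply, GmPts.unitOfPt_comp, hu, e, GmPts.unitOfPt_one]
    exact Units.ext h1
  have hm : IsMonHom u := K408.CharUnit.isMonHom_of_one H u hone
  have hiu : i ≫ u = 1 := by
    apply (GmPts.equiv (S := Spec (CommRingCat.of K)) _).injective
    rw [GmPts.equiv_apply, GmPts.equiv_apply, GmPts.unitOfPt_comp, hu, GmPts.unitOfPt_one]
    exact Units.ext hT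
  have h2 := char_eq_one H T i hi u hiu
  rw [h2, GmPts.unitOfPt_one] at hu
  exact (congrArg Units.val hu).symm

end Groth.Agent.AlgGrp.K493.UnitTor
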